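import Cfsg.Agent.H694.EB.Hecke
import Cfsg.Agent.H694.DGood
import Cfsg.Agent.H968.Imc.RankThreeFix

/-!
# TEAM EB (S4522), piece T02: counting on orbitals and rank 3 actions

* `cn_eq_zero`, `mem_of_orbitals` : criterion (L'): the number of conjugates of a `p`-regular element mapping
  `x` to `y` is divisible by `p` if a `p`-subgroup of `G_{x,y}` has no `p`-regular element in its centralizer mapping
  `x` to `y`; if this holds for all `x ≠ y`, all constituents of the permutation character are in the principal block;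
* `Rank3.mem` : criterion (E): rank 3, `n`, `lam`, `mu` even: all constituents are in the principal 2-block;
* `Rank3.exists` : the parameters from the subdegrees;
* `Rank3.degrees` : the degrees of the constituents.
-/

set_option autoImplicit false
set_option linter.unusedSectionVars false

namespace Cfsg.Agent.H522.EB

open Cfsg Cfsg.Agent.H694 Cfsg.Agent.H694.EB Matrix
open scoped ComplexConjugate

universe u v

section
variable {S : Type u} [Group S] [Fintype S] {M : Ideal AlgInt} {p : ℕ}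

/-- (L'), one orbital -/
theorem cn_eq_zero {X : Type v} [Fintype X] [MulAction S X] [Fact p.Prime] (x y : X) (Q : Subgroup S)
    (hQ : IsPGroup p Q) (hx : ∀ q ∈ Q, q • x = x) (hy : ∀ q ∈ Q, q • y = y)
    (h : ∀ g : S, IsPRegular p g → (∀ q ∈ Q, q * g = g * q) → g • x ≠ y) (g : S) (hg : IsPRegular p g) :
    ((cn g y x : ℕ) : ZMod p) = 0 := by
  classical
  let T : Type u := {k : S // IsConj g k ∧ k • x = y}
  let act : MulAction Q T :=
    { smul := fun q t => ⟨(q : S) * t.1 * (q : S)⁻¹, t.2.1.trans (isConj_iff.2 ⟨q, rfl⟩), by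
        rw [mul_smul, mul_smul, inv_smul_eq_iff.2 (hx q q.2).symm, t.2.2, hy q q.2]⟩
      one_smul := fun t => Subtype.ext (show (1 : S) * t.1 * (1 : S)⁻¹ = t.1 by group)
      mul_smul := fun q r t => Subtype.ext (show ((q : S) * r) * t.1 * ((q : S) * r)⁻¹ =
        (q : S) * ((r : S) * t.1 * (r : S)⁻¹) * (q : S)⁻¹ by group) }
  have hfix : IsEmpty (MulAction.fixedPoints Q T) := by
    refine ⟨fun t => ?_⟩
    obtain ⟨t, ht⟩ := t
    refine h t.1 ?_ ?_ t.2.2
    · obtain ⟨c, hc⟩ := isConj_iff.1 t.2.1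
      have h1 : orderOf t.1 = orderOf g := by
        rw [← hc]
        exact (MulAut.conj c).orderOf_eq g
      unfold IsPRegular at hg ⊢
      rw [h1]
      exact hg
    · intro q hq
      have h1 := congrArg (fun t : T => t.1) (ht ⟨q, hq⟩)
      have h2 : q * t.1 * q⁻¹ = t.1 := h1
      rw [mul_inv_eq_iff_eq_mul] at h2
      exact h2
  have h1 := hQ.card_modEq_card_fixedPoints T
  have h2 : Nat.card (MulAction.fixedPoints Q T) = 0 := Nat.card_of_isEmpty
  rw [h2] at h1
  have h3 : p ∣ Nat.card T := (Nat.modEq_zero_iff_dvd).1 h1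
  exact (ZMod.natCast_eq_zero_iff _ _).2 h3

/-- the hypothesis of `mem_principalBlock` -/
theorem trace_ne {X : Type v} [Fintype X] [MulAction S X] (χ : IrrCharacter S)
    (hχ : classInner (permC S X) (χ : S → ℂ) ≠ 0) :
    ∑ h : S, (Nat.card {x : X // h • x = x} : ℂ) * (χ : S → ℂ) h⁻¹ ≠ 0 := by
  intro h0
  apply hχ
  unfold classInner
  have h1 : ∀ h : S, permC S X h * conj ((χ : S → ℂ) h) =
      (Nat.card {x : X // h • x = x} : ℂ) * (χ : S → ℂ) h⁻¹ := by
    intro h
    rw [Characters.Core.isCharacter_apply_inv (Characters.Core.isIrr_isCharacter χ.2) h]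
    rfl
  rw [Finset.sum_congr rfl fun h _ => h1 h, h0, mul_zero]

/-- (L'), all orbitals -/
theorem mem_of_orbitals {X : Type v} [Fintype X] [MulAction S X] (hM : IsPModular p M)
    (h : ∀ x y : X, x ≠ y → ∃ Q : Subgroup S, IsPGroup p Q ∧ (∀ q ∈ Q, q • x = x) ∧ (∀ q ∈ Q, q • y = y) ∧
      ∀ g : S, IsPRegular p g → (∀ q ∈ Q, q * g = g * q) → g • x ≠ y) (χ : IrrCharacter S)
    (hχ : classInner (permC S X) (χ : S → ℂ) ≠ 0) : χ ∈ principalBlock M S := by
  classical
  have : Fact p.Prime := ⟨hM.1⟩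
  refine mem_principalBlock (X := X) hM χ (trace_ne χ hχ) fun g hg => ⟨1, ?_⟩
  rw [pow_one]
  have h0 : ∀ x y : X, x ≠ y → ((cn g y x : ℕ) : ZMod p) = 0 := by
    intro x y hxy
    obtain ⟨Q, hQ, hx, hy, hc⟩ := h x y hxy
    exact cn_eq_zero x y Q hQ hx hy hc g hg
  ext x y
  rw [Matrix.sub_apply, Matrix.of_apply, Matrix.smul_apply, Matrix.one_apply, Matrix.zero_apply]
  by_cases hxy : x = y
  · subst hxy
    have h1 := sum_cn g x
    have h2 : ((∑ y, cn g x y : ℕ) : ZMod p) = cn g x x := by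
      rw [Nat.cast_sum, Finset.sum_eq_single x (fun z _ hz => h0 z x hz) (by simp)]
    rw [← h2, h1, if_pos rfl, smul_eq_mul, mul_one, sub_self]
  · rw [if_neg hxy, smul_zero, sub_zero]
    exact h0 y x (Ne.symm hxy)

/-- `S` acts on `X` with rank 3, `A` is one of the two nontrivial orbitals (self-paired), of valency `k`;
`lam`, `mu` are the numbers of common neighbours. -/
structure Rank3 (S : Type u) [Group S] (X : Type v) [MulAction S X] (A : X → X → Prop) (n k lam mu : ℕ) : Prop where
  card : Nat.card X = n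
  symm : ∀ x y, A x y → A y x
  irrefl : ∀ x, ¬ A x x
  inv : ∀ (g : S) x y, A x y → A (g • x) (g • y)
  trans : ∀ x y : X, ∃ g : S, g • x = y
  orb1 : ∀ x y x' y', A x y → A x' y' → ∃ g : S, g • x = x' ∧ g • y = y'
  orb2 : ∀ x y x' y', x ≠ y → ¬ A x y → x' ≠ y' → ¬ A x' y' → ∃ g : S, g • x = x' ∧ g • y = y'
  deg : ∀ x, Nat.card {y // A x y} = k
  lam_eq : ∀ x y, A x y → Nat.card {z // A x z ∧ A y z} = lam
  mu_eq : ∀ x y, x ≠ y → ¬ A x y → Nat.card {z // A x z ∧ A y z} = mu

theorem z2a : ∀ a b : ZMod 2, a = (a + b) * 1 + b := by decide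

theorem z2b : ∀ a b : ZMod 2, a = 0 + b + (a + b) := by decide

theorem z2c : ∀ a b c d : ZMod 2,
    a - (a + ((c + d) * b + d)) * 1 = (c + d) * (0 + b * 1) + d * 1 := by decide

theorem z2d : ∀ a b c d e f : ZMod 2,
    (c * (c * b) + d * (c * b) + (c * (d * b) + d * (d * b))) * a +
              (c * (c * b) + d * (c * b) + (c * (d * b) + d * (d * b))) * e +
            (c * (d * b) + d * (d * b)) * f +
          ((c * b * c + d * b * c + (c * b * d + d * b * d)) * e +
              (c * b * (c * b) + d * b * (c * b) + (c * b * (d * b) + d * b * (d * b))) * a +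
            (c * b * d + d * b * d) * f) +
        ((d * (c * b) + d * (d * b)) * f + (d * (c * b) + d * (d * b)) * f + d * d * 0) =
      0 := by decide

/-- (E) -/
theorem Rank3.mem {X : Type v} [Fintype X] [MulAction S X] {A : X → X → Prop} {n k lam mu : ℕ}
    (h : Rank3 S X A n k lam mu) (hM : IsPModular 2 M) (hn : Even n) (hl : Even lam) (hm : Even mu)
    (χ : IrrCharacter S) (hχ : classInner (permC S X) (χ : S → ℂ) ≠ 0) : χ ∈ principalBlock M S := by
  classical
  have : Fact (Nat.Prime 2) := ⟨Nat.prime_two⟩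
  refine mem_principalBlock (X := X) hM χ (trace_ne χ hχ) fun g hg => ⟨2, ?_⟩
  have hn0 : ((Fintype.card X : ℕ) : ZMod 2) = 0 := by
    rw [← Nat.card_eq_fintype_card, h.card]
    exact (ZMod.natCast_eq_zero_iff_even).2 hn
  -- the two constants
  obtain ⟨c1, hc1⟩ : ∃ c : ZMod 2, ∀ x y : X, A x y → (cn g x y : ZMod 2) = c := by
    by_cases hex : ∃ x y, A x y
    · obtain ⟨x0, y0, h0⟩ := hex
      refine ⟨(cn g x0 y0 : ZMod 2), fun x y hxy => ?_⟩
      obtain ⟨t, ht1, ht2⟩ := h.orb1 x0 y0 x y h0 hxy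
      rw [← ht1, ← ht2, cn_smul]
    · exact ⟨0, fun x y hxy => absurd ⟨x, y, hxy⟩ hex⟩
  obtain ⟨c2, hc2⟩ : ∃ c : ZMod 2, ∀ x y : X, x ≠ y → ¬ A x y → (cn g x y : ZMod 2) = c := by
    by_cases hex : ∃ x y, x ≠ y ∧ ¬ A x y
    · obtain ⟨x0, y0, h0, h0'⟩ := hex
      refine ⟨(cn g x0 y0 : ZMod 2), fun x y hxy hxy' => ?_⟩
      obtain ⟨t, ht1, ht2⟩ := h.orb2 x0 y0 x y h0 h0' hxy hxy'
      rw [← ht1, ← ht2, cn_smul]
    · exact ⟨0, fun x y hxy hxy' => absurd ⟨x, y, hxy, hxy'⟩ hex⟩
  -- the matrices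
  let Am : Matrix X X (ZMod 2) := Matrix.of fun x y => if A x y then 1 else 0
  let J : Matrix X X (ZMod 2) := Matrix.of fun _ _ => 1
  have hsum : ∀ x, ∑ z, Am x z = (k : ZMod 2) := by
    intro x
    show ∑ z, (if A x z then (1 : ZMod 2) else 0) = k
    rw [Finset.sum_boole, ← h.deg x, Nat.card_eq_fintype_card, Fintype.card_subtype]
  have hsymm : ∀ x y, Am x y = Am y x := by
    intro x y
    show (if A x y then (1 : ZMod 2) else 0) = if A y x then 1 else 0
    by_cases h1 : A x y
    · rw [if_pos h1, if_pos (h.symm _ _ h1)]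
    · rw [if_neg h1, if_neg fun h2 => h1 (h.symm _ _ h2)]
  have hAA : Am * Am = (k : ZMod 2) • (1 : Matrix X X (ZMod 2)) := by
    ext x y
    rw [Matrix.mul_apply, Matrix.smul_apply, Matrix.one_apply]
    have h1 : ∀ z, Am x z * Am z y = if A x z ∧ A y z then 1 else 0 := by
      intro z
      rw [hsymm z y]
      show (if A x z then (1 : ZMod 2) else 0) * (if A y z then (1 : ZMod 2) else 0) = _
      by_cases h2 : A x z <;> by_cases h3 : A y z <;> simp [h2, h3]
    have h2 : ∑ z, Am x z * Am z y = ((Nat.card {z // A x z ∧ A y z} : ℕ) : ZMod 2) := by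
      rw [Finset.sum_congr rfl fun z _ => h1 z, Finset.sum_boole, Nat.card_eq_fintype_card,
        Fintype.card_subtype]
    rw [h2]
    by_cases hxy : x = y
    · subst hxy
      rw [if_pos rfl, smul_eq_mul, mul_one, ← h.deg x]
      congr 1
      exact Nat.card_congr (Equiv.subtypeEquivRight fun z => and_self_iff)
    · rw [if_neg hxy, smul_zero]
      by_cases hA : A x y
      · rw [h.lam_eq x y hA]
        exact (ZMod.natCast_eq_zero_iff_even).2 hl
      · rw [h.mu_eq x y hxy hA]
        exact (ZMod.natCast_eq_zero_iff_even).2 hm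
  have hAJ : Am * J = (k : ZMod 2) • J := by
    ext x y
    rw [Matrix.mul_apply, Matrix.smul_apply]
    show ∑ z, Am x z * 1 = (k : ZMod 2) • (1 : ZMod 2)
    rw [← Finset.sum_mul, hsum, smul_eq_mul]
  have hJA : J * Am = (k : ZMod 2) • J := by
    ext x y
    rw [Matrix.mul_apply, Matrix.smul_apply]
    show ∑ z, 1 * Am z y = (k : ZMod 2) • (1 : ZMod 2)
    rw [← Finset.mul_sum, Finset.sum_congr rfl fun z _ => hsymm z y, hsum, smul_eq_mul, mul_comm]
  have hJJ : J * J = 0 := by
    ext x y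
    rw [Matrix.mul_apply]
    show ∑ z : X, (1 : ZMod 2) * 1 = 0
    rw [Finset.sum_const, Finset.card_univ, nsmul_eq_mul, hn0, zero_mul]
  have hN : (Matrix.of fun x y : X => (cn g x y : ZMod 2)) -
      ((Subgroup.centralizer ({g} : Set S)).index : ZMod 2) • (1 : Matrix X X (ZMod 2)) =
      (c1 + c2) • (Am + (k : ZMod 2) • 1) + c2 • J := by
    have hoff : ∀ x y : X, x ≠ y → (cn g x y : ZMod 2) = (c1 + c2) * Am x y + c2 := by
      intro x y hxy
      show _ = (c1 + c2) * (if A x y then (1 : ZMod 2) else 0) + c2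
      by_cases hA : A x y
      · rw [if_pos hA, hc1 x y hA]
        exact z2a c1 c2
      · rw [if_neg hA, hc2 x y hxy hA, mul_zero, zero_add]
    ext x y
    rw [Matrix.sub_apply, Matrix.of_apply, Matrix.smul_apply, Matrix.add_apply, Matrix.smul_apply,
      Matrix.add_apply, Matrix.smul_apply, Matrix.smul_apply]
    by_cases hxy : x = y
    · subst hxy
      rw [Matrix.one_apply_eq, ← sum_cn g x, Nat.cast_sum]
      have h1 : ∑ y, (cn g x y : ZMod 2) = (cn g x x : ZMod 2) + ((c1 + c2) * k + c2) := by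
        have h2 : ∀ y, (cn g x y : ZMod 2) = ((c1 + c2) * Am x y + c2) +
            if y = x then (cn g x x : ZMod 2) + c2 else 0 := by
          intro y
          by_cases hyx : y = x
          · subst hyx
            rw [if_pos rfl]
            have h3 : Am y y = 0 := if_neg (h.irrefl y)
            rw [h3, mul_zero]
            exact z2b _ _
          · rw [if_neg hyx, add_zero]
            exact hoff x y (Ne.symm hyx)
        rw [Finset.sum_congr rfl fun y _ => h2 y, Finset.sum_add_distrib, Finset.sum_add_distrib,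
          ← Finset.mul_sum, hsum, Finset.sum_const, Finset.card_univ, nsmul_eq_mul, hn0,
          Finset.sum_ite_eq' Finset.univ x, if_pos (Finset.mem_univ x)]
        ring
      rw [h1]
      have h3 : Am x x = 0 := if_neg (h.irrefl x)
      have h4 : J x x = 1 := rfl
      rw [h3, h4, smul_eq_mul, smul_eq_mul, smul_eq_mul, smul_eq_mul]
      exact z2c _ _ _ _
    · rw [Matrix.one_apply_ne hxy, smul_zero, sub_zero, smul_zero, add_zero, hoff x y hxy]
      have h4 : J x y = 1 := rfl
      rw [h4, smul_eq_mul, smul_eq_mul, mul_one]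
  rw [hN, sq]
  simp only [add_mul, mul_add, smul_mul_assoc, mul_smul_comm, smul_smul, mul_one, one_mul, hAA, hAJ, hJA,
    hJJ, smul_add]
  ext x y
  simp only [Matrix.add_apply, Matrix.smul_apply, smul_eq_mul, Matrix.zero_apply]
  exact z2d _ _ _ _ _ _

open Cfsg.Agent.H690.Spor.RankThree Cfsg.Agent.H690.Spor.RankThree.R3

/-- translation to the structure `R3` of helper690 -/
theorem Rank3.r3 {X : Type v} [Finite X] [MulAction S X] {A : X → X → Prop} {n k lam mu : ℕ}
    (h : Rank3 S X A n k lam mu) (hk : 0 < k) (hkn : k + 1 < n) : R3 S X A k (n - 1 - k) where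
  trans := ⟨fun x y => h.trans x y⟩
  symm := h.symm
  irr := h.irrefl
  inv := h.inv
  one := h.orb1
  two := h.orb2
  cardk := h.deg
  k0 := hk
  l0 := by omega
  cardn := by rw [h.card]; omega

/-- existence of `lam`, `mu` from the subdegrees alone -/
theorem Rank3.exists {X : Type v} [Fintype X] [MulAction S X] (A : X → X → Prop) (n k : ℕ)
    (card : Nat.card X = n) (symm : ∀ x y, A x y → A y x) (irrefl : ∀ x, ¬ A x x)
    (inv : ∀ (g : S) x y, A x y → A (g • x) (g • y)) (trans : ∀ x y : X, ∃ g : S, g • x = y)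
    (orb1 : ∀ x y x' y', A x y → A x' y' → ∃ g : S, g • x = x' ∧ g • y = y')
    (orb2 : ∀ x y x' y', x ≠ y → ¬ A x y → x' ≠ y' → ¬ A x' y' → ∃ g : S, g • x = x' ∧ g • y = y')
    (deg : ∀ x, Nat.card {y // A x y} = k) (hk : 0 < k) (hkn : k + 1 < n) (heven : Even n) :
    ∃ lam mu : ℕ, Rank3 S X A n k lam mu ∧ k * (k - 1 - lam) = (n - 1 - k) * mu ∧ lam + 1 ≤ k ∧
      IsSquare (((lam : ℤ) - mu) ^ 2 + 4 * ((k : ℤ) - mu)) := by
  classical
  have hr : R3 S X A k (n - 1 - k) :=
    { trans := ⟨fun x y => trans x y⟩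
      symm := symm
      irr := irrefl
      inv := inv
      one := orb1
      two := orb2
      cardk := deg
      k0 := hk
      l0 := by omega
      cardn := by rw [card]; omega }
  obtain ⟨a, b, hab⟩ := hr.exists_params
  have hcom : ∀ x y, (com A x y : ℂ) = (k - b : ℂ) * dia x y + (a - b : ℂ) * adj A x y + b := by
    intro x y
    rw [← hab, sum_mul]
  have hpar := hr.params_eq hab
  have hsw : ∀ x y, Nat.card {z // A x z ∧ A y z} = com A x y := by
    intro x y
    refine Nat.card_congr (Equiv.subtypeEquivRight fun z => ?_)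
    exact ⟨fun hz => ⟨hz.1, symm _ _ hz.2⟩, fun hz => ⟨hz.1, symm _ _ hz.2⟩⟩
  have hA : ∀ x y, A x y → com A x y = a := by
    intro x y hxy
    have h1 := hcom x y
    have h2 : x ≠ y := by
      rintro rfl
      exact irrefl x hxy
    unfold dia adj at h1
    rw [if_neg h2, if_pos hxy] at h1
    have h3 : (com A x y : ℂ) = a := by rw [h1]; ring
    exact_mod_cast h3
  have hB : ∀ x y, x ≠ y → ¬ A x y → com A x y = b := by
    intro x y h2 hxy
    have h1 := hcom x y
    unfold dia adj at h1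
    rw [if_neg h2, if_neg hxy] at h1
    have h3 : (com A x y : ℂ) = b := by rw [h1]; ring
    exact_mod_cast h3
  have hR : Rank3 S X A n k a b :=
    { card := card
      symm := symm
      irrefl := irrefl
      inv := inv
      trans := trans
      orb1 := orb1
      orb2 := orb2
      deg := deg
      lam_eq := fun x y hxy => by rw [hsw, hA x y hxy]
      mu_eq := fun x y hxy hxy' => by rw [hsw, hB x y hxy hxy'] }
  -- `lam + 1 ≤ k`
  have hak : a + 1 ≤ k := by
    have hne : Nonempty X := by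
      rw [← Finite.card_pos_iff, card]
      omega
    obtain ⟨x0⟩ := hne
    have h1 : Nonempty {y // A x0 y} := by
      rw [← Finite.card_pos_iff, deg]
      exact hk
    obtain ⟨y0, hy0⟩ := h1
    have h2 : {z | A x0 z ∧ A z y0}.ncard < {z | A x0 z}.ncard := by
      refine Set.ncard_lt_ncard ⟨fun z hz => hz.1, fun hcon => ?_⟩ (Set.toFinite _)
      exact irrefl y0 (hcon hy0).2
    have h3 : {z | A x0 z ∧ A z y0}.ncard = a := by
      rw [← hA x0 y0 hy0]
      rfl
    have h4 : {z | A x0 z}.ncard = k := by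
      rw [← deg x0]
      rfl
    omega
  refine ⟨a, b, hR, ?_, hak, ?_⟩
  · obtain ⟨c, hc⟩ := Nat.exists_eq_add_of_le hak
    have h1 : k - 1 - a = c := by omega
    rw [h1]
    have h2 : k * k = k + k * a + k * c := by
      conv_lhs => rw [hc]
      rw [hc]
      ring
    omega
  · -- the discriminant
    have hne : ((a : ℤ) - b) * (k + (n - 1 - k : ℕ)) + 2 * k ≠ 0 := by
      intro h0
      obtain ⟨l, hl⟩ : ∃ l : ℕ, l = n - 1 - k := ⟨_, rfl⟩
      rw [← hl] at h0
      have hl0 : 0 < l := by omega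
      have hnl : n = 1 + k + l := by omega
      set β : ℤ := (a : ℤ) - b with hβ
      have hk' : (0 : ℤ) < k := by exact_mod_cast hk
      have hl' : (0 : ℤ) < l := by exact_mod_cast hl0
      have h1 : β < 0 := by
        by_contra hcon
        push Not at hcon
        have : 0 ≤ β * ((k : ℤ) + l) := by positivity
        omega
      have h2 : -2 < β := by
        by_contra hcon
        push Not at hcon
        nlinarith
      have h3 : β = -1 := by omega
      rw [h3] at h0
      obtain ⟨m, hm⟩ := heven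
      omega
    obtain ⟨c, hc⟩ := Cfsg.Agent.H968.Imc.sq_of_params hr hab hne
    exact ⟨c, hc.symm⟩

/-- the degrees of the two nonprincipal constituents; `r`, `s` are the eigenvalues -/
theorem Rank3.degrees {X : Type v} [Fintype X] [MulAction S X] {A : X → X → Prop} {n k lam mu : ℕ}
    (h : Rank3 S X A n k lam mu) (hk : 0 < k) (hkn : k + 1 < n) {r s : ℤ} {f g : ℕ} (hrs : r ≠ s)
    (hr : r ^ 2 = k + lam * r + mu * (-1 - r)) (hs : s ^ 2 = k + lam * s + mu * (-1 - s))
    (hfg : f + g + 1 = n) (htr : (k : ℤ) + f * r + g * s = 0) :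
    ∃ φ ψ : IrrCharacter S, permC S X = (fun _ => 1) + (φ : S → ℂ) + (ψ : S → ℂ) ∧
      charDegree (φ : S → ℂ) = f ∧ charDegree (ψ : S → ℂ) = g := by
  classical
  have h3 := h.r3 hk hkn
  -- the parameters
  have hab : ∀ x y, ∑ z, adj A x z * adj A z y =
      (k - mu : ℂ) * dia x y + (lam - mu : ℂ) * adj A x y + mu := by
    intro x y
    rw [sum_mul]
    have hsw : com A x y = Nat.card {z // A x z ∧ A y z} := by
      refine Nat.card_congr (Equiv.subtypeEquivRight fun z => ?_)
      exact ⟨fun hz => ⟨hz.1, h.symm _ _ hz.2⟩, fun hz => ⟨hz.1, h.symm _ _ hz.2⟩⟩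
    unfold dia adj
    by_cases hxy : x = y
    · subst hxy
      rw [if_pos rfl, if_neg (h.irrefl x), h3.com_self]
      ring
    · rw [if_neg hxy, hsw]
      by_cases hA : A x y
      · rw [if_pos hA, h.lam_eq x y hA]
        ring
      · rw [if_neg hA, h.mu_eq x y hxy hA]
        ring
  have hsub : (r - s) ≠ 0 := sub_ne_zero.2 hrs
  have h1 : r + s = (lam : ℤ) - mu := by
    apply mul_left_cancel₀ hsub
    linear_combination hr - hs
  have h2 : r * s = (mu : ℤ) - k := by
    linear_combination (-1 : ℤ) * hr + r * h1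
  obtain ⟨χ, f', hχ, hχ1, hf'⟩ := Cfsg.Agent.H968.Imc.exists_irr h3 hab hrs h1 h2
  obtain ⟨ψ, g', hψ, hψ1, hg'⟩ := Cfsg.Agent.H968.Imc.exists_irr h3 hab hrs.symm
    (by rw [add_comm]; exact h1) (by rw [mul_comm]; exact h2)
  have hl : ((n - 1 - k : ℕ) : ℤ) = f + g - k := by omega
  have hff : f' = f := by
    have h5 : ((f' : ℤ) - f) * (r - s) = 0 := by
      rw [hl] at hf'
      linear_combination hf' - htr
    have h6 := (mul_eq_zero.1 h5).resolve_right hsub
    omega
  have hgg : g' = g := by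
    have h5 : ((g' : ℤ) - g) * (s - r) = 0 := by
      rw [hl] at hg'
      linear_combination hg' - htr
    have h6 := (mul_eq_zero.1 h5).resolve_right (sub_ne_zero.2 hrs.symm)
    omega
  refine ⟨χ, ψ, ?_, ?_, ?_⟩
  · funext t
    show (Nat.card (MulAction.fixedBy X t) : ℂ) = 1 + (χ : S → ℂ) t + (ψ : S → ℂ) t
    rw [hχ, hψ]
    have hsC : (r : ℂ) - s ≠ 0 := by exact_mod_cast hsub
    have hn0 : (Nat.card X : ℂ) ≠ 0 := by
      rw [h.card]
      exact_mod_cast (by omega : n ≠ 0)
    have h7 : ∀ x : X, ker A k (Nat.card X) (r : ℂ) (s : ℂ) x (t • x) +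
        ker A k (Nat.card X) (s : ℂ) (r : ℂ) x (t • x) = dia x (t • x) - (Nat.card X : ℂ)⁻¹ := by
      intro x
      unfold ker
      have h8 : ((s : ℂ) - r)⁻¹ = -((r : ℂ) - s)⁻¹ := by rw [← neg_sub, inv_neg]
      have h9 : ((r : ℂ) - s)⁻¹ * ((r : ℂ) - s) = 1 := inv_mul_cancel₀ hsC
      rw [h8]
      linear_combination (dia x (t • x) - (Nat.card X : ℂ)⁻¹) * h9
    rw [add_assoc, ← Finset.sum_add_distrib, Finset.sum_congr rfl fun x _ => h7 x, Finset.sum_sub_distrib,
      sum_dia_smul, Finset.sum_const, Finset.card_univ, ← Nat.card_eq_fintype_card, nsmul_eq_mul,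
      mul_inv_cancel₀ hn0]
    ring
  · unfold charDegree
    rw [hχ1, hff, Complex.natCast_re, Nat.floor_natCast]
  · unfold charDegree
    rw [hψ1, hgg, Complex.natCast_re, Nat.floor_natCast]

end

end Cfsg.Agent.H522.EB
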